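import Groth.Agent.Lib.EtDer.NormalConst
import Groth.Agent.Lib.QDim18.Main

/-!
# Higher cohomology of the constant sheaf of rational numbers on a normal noetherian scheme
-/

set_option autoImplicit false
set_option backward.isDefEq.respectTransparency false
set_option linter.style.haveILetI false
universe u

open CategoryTheory CategoryTheory.Limits CategoryTheory.Abelian AlgebraicGeometry Opposite
open GrothLib.EtSite GrothLib.EtDer GrothLib.GalCd GrothLib.EtTrace21

noncomputable section

namespace GrothLib.QConst13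

section unit

variable {X X' Y : Scheme.{u}} (M : AddCommGrpCat.{u + 1}) (f : X ⟶ Y) (e : X' ⟶ X)

theorem bijective_constUnit [IsPreimmersion f] [QuasiCompact (e ≫ f)] (hY : Pi1.IsNormalScheme Y)
    (V : Y.Etale) (hgen : ∀ (v : V.left) (p : Y), p ⤳ V.hom.base v → (∀ q : Y, q ⤳ p → q = p) →
      p ∈ Set.range (e ≫ f).base) :
    Function.Bijective ((constUnit M f).hom.app (op V)) := by
  haveI : Etale V.hom := V.prop
  let g := bcProj f V
  let g' : pullback V.hom (e ≫ f) ⟶ V.left := pullback.fst V.hom (e ≫ f)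
  let k : pullback V.hom (e ≫ f) ⟶ ((EtCoh.bc f).obj V).left :=
    pullback.lift (f := V.hom) (g := f) g' (pullback.snd V.hom (e ≫ f) ≫ e)
      (by rw [Category.assoc]; exact pullback.condition)
  have hk : k ≫ g = g' := pullback.lift_fst _ _ _
  choose η hη hη' using exists_generic (fun v => (isNormalScheme_etale hY V.hom v).1)
  have hmem : ∀ v, ∃ z, g'.base z = η v := fun v => by
    refine (Scheme.Pullback.range_fst (f := V.hom) (g := e ≫ f)).superset ?_
    refine hgen v _ ((hη v).map V.hom.continuous) fun q hq => ?_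
    obtain ⟨y, hy, rfl⟩ := (Flat.generalizingMap V.hom) hq
    exact congrArg V.hom.base (hy.antisymm (hη' v y (hy.trans (hη v)))).eq
  choose z hz using hmem
  have hgk : ∀ a, g.base (k.base a) = g'.base a := fun a => congrArg (fun m => m.base a) hk
  refine ⟨fun s t h => ext_val M V s t fun v => ?_, fun t => ?_⟩
  · rw [← apply_eq_of_specializes (isLocallyConstant_val M V s) (hη v),
      ← apply_eq_of_specializes (isLocallyConstant_val M V t) (hη v), ← hz v, ← hgk, ← val_constUnit,
      ← val_constUnit, h]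
  · let φ := val M _ t
    have hφ : IsLocallyConstant φ := isLocallyConstant_val M _ t
    let ψ : V.left → M := fun v => φ (k.base (z v))
    have hψ : IsLocallyConstant ψ := (IsLocallyConstant.iff_exists_open _).2 fun v => by
      let S : Set ↥(pullback V.hom (e ≫ f)) := k.base ⁻¹' (φ ⁻¹' {ψ v}ᶜ)
      have hS : IsClosed S := ((hφ {ψ v}).isClosed_compl).preimage k.continuous
      refine ⟨(closure (g'.base '' S))ᶜ, isClosed_closure.isOpen_compl, fun hv => ?_, fun p hp => ?_⟩
      · obtain ⟨a, ha, hav⟩ := GrothLib.GrpdQuot.exists_specializes_of_mem_closure g' S hS v hv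
        refine ha ?_
        have h1 : g.base (k.base (z v)) ⤳ g.base (k.base a) := by
          rw [hgk, hgk, hz]; exact hη' v _ hav
        exact (apply_eq_of_specializes hφ (g.isEmbedding.isInducing.specializes_iff.1 h1)).symm
      · by_contra hne
        exact hp ((hη p).mem_closed isClosed_closure (subset_closure ⟨z p, hne, hz p⟩))
    obtain ⟨s, hs⟩ := exists_val M V ψ hψ
    refine ⟨s, ext_val M _ _ t fun w => ?_⟩
    rw [val_constUnit, hs]
    have h1 : g.base (k.base (z (g.base w))) ⤳ g.base w := by rw [hgk, hz]; exact hη _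
    exact apply_eq_of_specializes hφ (g.isEmbedding.isInducing.specializes_iff.1 h1)


theorem bijective_unit [IsPreimmersion f] [QuasiCompact f] (hY : Pi1.IsNormalScheme Y) (V : Y.Etale)
    (hgen : ∀ (v : V.left) (p : Y), p ⤳ V.hom.base v → (∀ q : Y, q ⤳ p → q = p) → p ∈ Set.range f.base) :
    Function.Bijective (((EtCoh.pullPushAdj f).unit.app (CM M Y)).hom.app (op V)) := by
  haveI : QuasiCompact (𝟙 X ≫ f) := by rw [Category.id_comp]; infer_instance
  have h := bijective_constUnit M f (𝟙 X) hY V (by simpa using hgen)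
  let t := (sheafSections Y.smallEtaleTopology AddCommGrpCat.{u + 1}).obj (op V)
  haveI : IsIso (t.map (constUnit M f)) := (ConcreteCategory.isIso_iff_bijective _).2 h
  haveI : IsIso ((EtCoh.push f).map ((EtCore.pullConstIso f).hom.app M)) := inferInstance
  haveI : IsIso (t.map ((EtCoh.pullPushAdj f).unit.app (CM M Y)) ≫
      t.map ((EtCoh.push f).map ((EtCore.pullConstIso f).hom.app M))) := by
    rw [← t.map_comp]
    exact ‹IsIso (t.map (constUnit M f))›
  exact (ConcreteCategory.isIso_iff_bijective _).1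
    (IsIso.of_isIso_comp_right (t.map ((EtCoh.pullPushAdj f).unit.app (CM M Y)))
      (t.map ((EtCoh.push f).map ((EtCore.pullConstIso f).hom.app M))))

end unit

/-- Stalks of a morphism which is bijective on sections near the point. -/
theorem bijective_stalk_of_nhds {X : Scheme.{u}} {F G : EtCoh.Ab X} (φ : F ⟶ G) {Ω : Type u} [Field Ω]
    [IsSepClosed Ω] (ξ : Spec (CommRingCat.of Ω) ⟶ X) (O : X.Opens) (hO : ξ.base default ∈ O)
    (h : ∀ V : X.Etale, (∀ v : V.left, V.hom.base v ∈ O) → Function.Bijective (φ.hom.app (op V))) :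
    Function.Bijective ((EtCoh.stalk ξ).map φ) := by
  have hshrink : ∀ (U : X.Etale) (t : (Scheme.pointSmallEtale ξ).fiber.obj U),
      ∃ (V : X.Etale) (g : V ⟶ U) (v : (Scheme.pointSmallEtale ξ).fiber.obj V),
        (Scheme.pointSmallEtale ξ).fiber.map g v = t ∧ ∀ p : V.left, V.hom.base p ∈ O := fun U t => by
    let W : U.left.Opens := U.hom ⁻¹ᵁ O
    have hm : t.left.base (default : Spec (CommRingCat.of Ω)) ∈ W := by
      show U.hom.base _ ∈ O
      have e : t.left ≫ U.hom = ξ := Over.w t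
      exact (congrArg (fun r : Spec (CommRingCat.of Ω) ⟶ X => r.base (default : Spec (CommRingCat.of Ω))) e).symm ▸ hO
    obtain ⟨v, hv, -⟩ := GrothLib.EtBasicB.exists_fib_lift ξ (opensHom U W) t (⟨_, hm⟩ : W) rfl
    exact ⟨opensObj U W, opensHom U W, v, hv, fun p => p.2⟩
  constructor
  · rw [injective_iff_map_eq_zero]
    intro p hp
    obtain ⟨U, t, s, rfl⟩ := exists_germ ξ F p
    rw [stalk_map_germ] at hp
    rw [← map_zero (germ ξ G t).hom] at hp
    obtain ⟨V, g, v, hv, hg⟩ := (germ_eq_iff ξ G t _ 0).1 hp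
    obtain ⟨V', g', v', hv', hp'⟩ := hshrink V v
    have hz : F.obj.map g'.op (F.obj.map g.op s) = 0 := by
      apply (h V' hp').1
      rw [NatTrans.naturality_apply, NatTrans.naturality_apply, hg, map_zero, map_zero, map_zero]
    rw [← hv, ← germ_map, ← hv', ← germ_map, hz, map_zero]
  · intro p
    obtain ⟨U, t, s, rfl⟩ := exists_germ ξ G p
    obtain ⟨V, g, v, hv, hp⟩ := hshrink U t
    obtain ⟨r, hr⟩ := (h V hp).2 (G.obj.map g.op s)
    exact ⟨germ ξ F v r, by rw [stalk_map_germ, hr, germ_map, hv]⟩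

theorem udiv_const (X : Scheme.{u}) : QDim18.UDiv (EtCoh.const X ℚ) := by
  haveI : (constantSheaf X.smallEtaleTopology AddCommGrpCat.{u + 1}).Additive :=
    haveI : (EtCore.gsec X).Additive := ⟨fun {_ _ _ _} => rfl⟩
    (EtCore.constAdj X).left_adjoint_additive
  refine QDim18.UDiv.map (constantSheaf X.smallEtaleTopology AddCommGrpCat.{u + 1})
    (A := AddCommGrpCat.of (ULift.{u + 1} ℚ)) fun m hm => ?_
  rw [ConcreteCategory.isIso_iff_bijective]
  have e : ∀ q : ULift.{u + 1} ℚ, (m • 𝟙 (AddCommGrpCat.of (ULift.{u + 1} ℚ)) :) q = m • q := fun q => rfl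
  have hm' : (m : ℚ) ≠ 0 := Nat.cast_ne_zero.2 hm.ne'
  refine ⟨fun a b hab => ?_, fun a => ⟨⟨a.down / m⟩, ?_⟩⟩
  · rw [e, e] at hab
    ext
    have := congrArg ULift.down hab
    simpa [hm'] using this
  · rw [e]
    ext
    simp [hm', mul_div_cancel₀]

/-- Higher cohomology of `ℚ` on a normal noetherian scheme vanishes. -/
theorem H_eq_zero (X : Scheme.{u}) [AlgebraicGeometry.IsNoetherian X] (hN : Pi1.IsNormalScheme X) (q : ℕ)
    (a : EtCoh.H X (EtCoh.const X ℚ) (q + 1)) : a = 0 := by
  classical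
  let F := EtCoh.const X ℚ
  let G : MaxPts X → EtCoh.Ab X := fun x =>
    (EtCoh.push (X.fromSpecResidueField x.1)).obj ((EtCoh.pull (X.fromSpecResidueField x.1)).obj F)
  haveI : Fintype (MaxPts X) := Fintype.ofFinite _
  let φ : F ⟶ ⨁ G := biproduct.lift fun x => (EtCoh.pullPushAdj (X.fromSpecResidueField x.1)).unit.app F
  have htot : ∑ j, biproduct.π G j ≫ biproduct.ι G j = 𝟙 (⨁ G) := IsBilimit.total (biproduct.isBilimit G)
  haveI : IsIso φ := isIso_of_stalks φ fun Ω _ _ ξ => by
    obtain ⟨η, hη, hη'⟩ := exists_generic (fun v => (hN v).1) (ξ.base (default : Spec (CommRingCat.of Ω)))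
    let i₀ : MaxPts X := ⟨η, fun y hy => (hy.antisymm (hη' y (hy.trans hη))).eq⟩
    have hne : ∀ i : MaxPts X, i ≠ i₀ → ¬ i.1 ⤳ ξ.base (default : Spec (CommRingCat.of Ω)) := fun i hi hs =>
      hi (Subtype.ext (i.2 _ (hη' _ hs)).symm)
    have hzero : ∀ i : MaxPts X, i ≠ i₀ → IsZero ((EtCoh.stalk ξ).obj (G i)) := fun i hi =>
      GalCd.isZero_stalk_push_of_not_specializes i.1 ξ (hne i hi) _
    haveI : IsIso ((EtCoh.stalk ξ).map (biproduct.π G i₀)) := by
      refine ⟨(EtCoh.stalk ξ).map (biproduct.ι G i₀), ?_, ?_⟩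
      · rw [← Functor.map_comp, ← CategoryTheory.Functor.map_id, ← htot, Functor.map_sum, Finset.sum_eq_single i₀]
        · intro i _ hi
          rw [Functor.map_comp, (hzero i hi).eq_of_tgt ((EtCoh.stalk ξ).map (biproduct.π G i)) 0, zero_comp]
        · exact fun h => absurd (Finset.mem_univ _) h
      · rw [← Functor.map_comp, biproduct.ι_π_self, CategoryTheory.Functor.map_id]
    let O : X.Opens := ⟨(⋃ i : {i : MaxPts X // i ≠ i₀}, closure ({i.1.1} : Set X))ᶜ,
      (isClosed_iUnion_of_finite fun _ => isClosed_closure).isOpen_compl⟩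
    have hO : ξ.base (default : Spec (CommRingCat.of Ω)) ∈ O := fun h => by
      obtain ⟨i, hi⟩ := Set.mem_iUnion.1 h
      exact hne i.1 i.2 (specializes_iff_mem_closure.2 hi)
    let f := X.fromSpecResidueField i₀.1
    haveI : QuasiCompact f := quasiCompact_of_finite f
    haveI : IsIso ((EtCoh.stalk ξ).map ((EtCoh.pullPushAdj f).unit.app F)) := by
      rw [ConcreteCategory.isIso_iff_bijective]
      refine bijective_stalk_of_nhds _ ξ O hO fun V hV => bijective_unit _ f hN V fun v p hp hmax => ?_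
      refine ⟨(default : Spec (X.residueField i₀.1)), ?_⟩
      refine (Scheme.fromSpecResidueField_apply i₀.1 _).trans ?_
      by_contra hne'
      have hpO : p ∈ O := hp.mem_open O.2 (hV v)
      exact hpO (Set.mem_iUnion.2 ⟨⟨⟨p, hmax⟩, fun h => hne' (congrArg Subtype.val h).symm⟩, subset_closure rfl⟩)
    rw [← ConcreteCategory.isIso_iff_bijective]
    have e : (EtCoh.stalk ξ).map φ ≫ (EtCoh.stalk ξ).map (biproduct.π G i₀) =
        (EtCoh.stalk ξ).map ((EtCoh.pullPushAdj f).unit.app F) := by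
      rw [← Functor.map_comp, biproduct.lift_π]
    exact IsIso.of_isIso_fac_right e
  refine (GrothLib.EtDer.bijective_comp_mk₀ (asIso φ) (q + 1)).1 (Eq.trans ?_ (Ext.zero_comp _ _ _ _ (add_zero _)).symm)
  let b := Ext.comp a (Ext.mk₀ (asIso φ).hom) (add_zero (q + 1))
  have eb : b = ∑ i, Ext.comp b (Ext.mk₀ (biproduct.π G i ≫ biproduct.ι G i)) (add_zero (q + 1)) := by
    rw [← Ext.comp_sum, ← Ext.mk₀_sum, htot, Ext.comp_mk₀_id]
  show b = 0
  rw [eb]
  refine Finset.sum_eq_zero fun i _ => ?_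
  have h := QDim18.H_push_point_eq_zero i.1 F (udiv_const X) q
    (Ext.comp b (Ext.mk₀ (biproduct.π G i)) (add_zero (q + 1)))
  rw [← Ext.mk₀_comp_mk₀, ← Ext.comp_assoc_of_third_deg_zero]
  rw [show Ext.comp b (Ext.mk₀ (biproduct.π G i)) (add_zero (q + 1)) = 0 from h, Ext.zero_comp]

end GrothLib.QConst13
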